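import Cfsg.Agent.H83.CoreKilling.Main
import Cfsg.Agent.H77.SolvableCore
import Cfsg.Agent.H52.CharP
import Cfsg.Agent.S0502
import Cfsg.Agent.S1292

/-!
Characteristic two type for groups not of component type, and core killing for solvable centralisers,
given that cores of strongly embedded subgroups lie in the core of the group.
-/

set_option autoImplicit false

namespace Cfsg.Agent.H83.CoreKilling

open Subgroup Cfsg

variable {G : Type*} [Group G] [Finite G]

theorem constrained_of_solvable {X : Type*} [Group X] [Finite X] [Group.IsSolvable X] :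
    IsPConstrained 2 X := by
  haveI : Fact (Nat.Prime 2) := ⟨Nat.prime_two⟩
  haveI := H51.pPrimeCore_normal 2 X
  exact H51.isPConstrained_iff_centralizer_pCore_le.mpr
    (H77.centralizer_pCore_le 2 (H51.pPrimeCore_quotient_self 2))

theorem constrained_of_not_componentType (hc : ¬ IsComponentType G) (t : G) (ht : orderOf t = 2) :
    IsPConstrained 2 ↥(centralizer ({t} : Set G)) := by
  haveI : Fact (Nat.Prime 2) := ⟨Nat.prime_two⟩
  rw [H51.isPConstrained_iff_pLayer_eq_bot, H51.pLayer_eq_bot_iff]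
  exact sSup_eq_bot.mpr fun K hK => absurd ⟨t, ht, K, hK⟩ hc

/-- Groups not of component type with a connected Sylow `2`-subgroup of rank at least three. -/
theorem charTwoType (hB : ∀ M : Subgroup G, IsStronglyEmbedded M → (oddCore ↥M).map M.subtype ≤ oddCore G)
    (hFT : ∀ X : Subgroup G, Odd (Nat.card ↥X) → Group.IsSolvable ↥X)
    (h3 : ¬ PRankLE 2 2 G) (hO : oddCore G = ⊥) (hc : ¬ IsComponentType G) (S : Sylow 2 G)
    (hS : IsFourConnected (S : Subgroup G)) : IsCharacteristicTwoType G := by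
  haveI : Fact (Nat.Prime 2) := ⟨Nat.prime_two⟩
  have H : Hyp S := ⟨hS, h3, constrained_of_not_componentType hc, hFT⟩
  have hF : ∀ t : G, orderOf t = 2 →
      generalizedFittingSubgroup ↥(centralizer ({t} : Set G)) = pCore 2 ↥(centralizer ({t} : Set G)) := by
    intro t ht
    refine H51.generalizedFitting_eq_pCore ?_ (H51.isPConstrained_iff_pLayer_eq_bot.mp (H.cons t ht))
    have h : (pPrimeCore 2 ↥(centralizer ({t} : Set G))).map (centralizer ({t} : Set G)).subtype = ⊥ :=
      H.core_eq_bot hO hB ht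
    exact (map_eq_bot_iff_of_injective _ (centralizer ({t} : Set G)).subtype_injective).mp h
  obtain ⟨E, hES, hE, hE8⟩ := H.exists_eight_in_sylow
  obtain ⟨e, he, he1⟩ := H29.exists_ne_one_of_one_lt_card (A := E) (by omega)
  refine ⟨?_, fun T hT hT1 => ?_⟩
  · rw [even_iff_two_dvd, ← H.order_two hE he he1]
    exact orderOf_dvd_natCard e
  · exact H52.charP_iff_generalizedFitting.mpr (S1292.result hF T hT hT1)

/-- Solvable involution centralisers and a normal abelian subgroup of rank three in a Sylow subgroup. -/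
theorem core_of_solvable (hB : ∀ M : Subgroup G, IsStronglyEmbedded M → (oddCore ↥M).map M.subtype ≤ oddCore G)
    (hFT : ∀ X : Subgroup G, Odd (Nat.card ↥X) → Group.IsSolvable ↥X)
    (hrank : ¬ PRankLE 2 2 G) (hO : oddCore G = ⊥) (S : Sylow 2 G)
    (A : Subgroup G) (hAS : A ≤ S) (hAn : (A.subgroupOf S).Normal) (hAc : IsMulCommutative A)
    (hA3 : ¬ PRankLE 2 2 A)
    (hsol : ∀ t : G, orderOf t = 2 → Group.IsSolvable (centralizer ({t} : Set G)))
    (t : G) (ht : orderOf t = 2) : oddCore (centralizer ({t} : Set G)) = ⊥ := by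
  haveI : Fact (Nat.Prime 2) := ⟨Nat.prime_two⟩
  let A' := A.subgroupOf (S : Subgroup G)
  have hc : ∀ a ∈ A', ∀ b ∈ A', a * b = b * a := fun a ha b hb =>
    Subtype.ext (congrArg (fun x : ↥A => (x : G)) (hAc.1.1 ⟨a.1, ha⟩ ⟨b.1, hb⟩))
  let Ω : Subgroup ↥(S : Subgroup G) :=
    { carrier := {a | a ∈ A' ∧ a ^ 2 = 1}
      one_mem' := ⟨one_mem _, one_pow _⟩
      mul_mem' := fun {a b} ha hb => ⟨mul_mem ha.1 hb.1, by
        rw [Commute.mul_pow (hc a ha.1 b hb.1 : Commute a b), ha.2, hb.2, one_mul]⟩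
      inv_mem' := fun {a} ha => ⟨inv_mem ha.1, by rw [inv_pow, ha.2, inv_one]⟩ }
  haveI : Ω.Normal :=
    ⟨fun a ha g => ⟨hAn.conj_mem a ha.1 g, by rw [conj_pow, ha.2, mul_one, mul_inv_cancel]⟩⟩
  have h8 : 8 ≤ Nat.card Ω := by
    simp only [PRankLE, not_forall, not_le] at hA3
    obtain ⟨V, hVc, hV2, hV⟩ := hA3
    have hVe : IsElementaryAbelian 2 V := ⟨hVc, hV2⟩
    refine (H51.two_pow_le_card_of_lt (k := 2) hVe hV).trans ?_
    refine Nat.card_le_card_of_injective
      (fun v : ↥V => (⟨⟨(v : A), hAS (v : A).2⟩, (v : A).2, Subtype.ext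
        (congrArg (fun a : ↥A => (a : G)) (hV2 v v.2))⟩ : ↥Ω)) ?_
    intro v w h
    exact Subtype.ext (Subtype.ext (congrArg (fun x : ↥Ω => ((x : ↥(S : Subgroup G)) : G)) h))
  have hS := S0502.result S.isPGroup' Ω
    ⟨⟨fun a b => Subtype.ext (hc a a.2.1 b b.2.1)⟩⟩ (fun e he => he.2) h8
  have H : Hyp S := ⟨hS, hrank, fun x hx => haveI := hsol x hx; constrained_of_solvable, hFT⟩
  have h : (pPrimeCore 2 ↥(centralizer ({t} : Set G))).map (centralizer ({t} : Set G)).subtype = ⊥ :=
    H.core_eq_bot hO hB ht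
  exact (map_eq_bot_iff_of_injective _ (centralizer ({t} : Set G)).subtype_injective).mp h

end Cfsg.Agent.H83.CoreKilling
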